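import Cfsg.Agent.Lib.InvCentralizers.ChevInvolution.Torus
import Cfsg.Agent.Lib.Chevalley.TorusCentralizer

/-!
The centralizer of a torus involution in a Chevalley group: canonical forms give
`q^N |H| Σ q^{n(w)}` over the permutations preserving the even roots, and that sum is a product
over levels of coset representatives.
-/

set_option autoImplicit false
set_option linter.unusedSectionVars false

namespace CfsgLib.InvCentralizers.ChevInvolution

open Cfsg.Lie CfsgLib.Chevalley Sparse

variable {D : ChevalleyDatum} {A : Aux} {F : Type*} [Field F]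

/-! ### Sets of roots -/

/-- The roots of a mask. -/
def rootsIn (D : ChevalleyDatum) (M : ℕ) : Finset (Fin D.nroots) :=
  Finset.univ.filter fun s => M.testBit s = true

theorem mem_rootsIn {M : ℕ} {s : Fin D.nroots} : s ∈ rootsIn D M ↔ M.testBit s = true := by
  simp [rootsIn]

/-- The positive roots of a mask. -/
def posIn (D : ChevalleyDatum) (M : ℕ) : List ℕ :=
  (List.range' (D.nroots / 2) (D.nroots / 2)).filter fun s => M.testBit s

theorem mem_posIn (h : Full D A) {M s : ℕ} :
    s ∈ posIn D M ↔ D.IsPosRoot s ∧ M.testBit s = true := by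
  rw [posIn, List.mem_filter, List.mem_range'_1, h.pos.isPos_iff]
  have := h.pos.nroots_eq
  constructor
  · rintro ⟨⟨h1, h2⟩, h3⟩; exact ⟨⟨h1, by omega⟩, h3⟩
  · rintro ⟨⟨h1, h2⟩, h3⟩; exact ⟨⟨h1, by omega⟩, h3⟩

theorem pairwise_posIn (M : ℕ) : (posIn D M).Pairwise (· < ·) :=
  (List.pairwise_lt_range' (step := 1)).filter _

/-- The permutations preserving a mask. -/
noncomputable def cenW (hC : Cert D A) (M : ℕ) : Finset (Equiv.Perm (Fin D.nroots)) :=
  (wSet hC D.rank).filter fun σ => ∀ s : Fin D.nroots, M.testBit (σ s) = M.testBit s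

/-- The roots of a mask made negative. -/
noncomputable def invsIn (M : ℕ) (σ : Equiv.Perm (Fin D.nroots)) : Finset (Fin D.nroots) :=
  (invs σ).filter fun s : Fin D.nroots => M.testBit s = true

/-! ### Unipotent groups of even roots -/

theorem chi_comb (h : Full D A) (c : Fin D.rank → Fˣ) {r s q : Fin D.nroots} {a b : ℤ}
    (e : ∀ k < D.rank, crd A k q = a * crd A k r + b * crd A k s) :
    chi D q c = chi D r c ^ a * chi D s c ^ b := by
  show ∏ k : Fin D.rank, c k ^ D.cartan k q = (∏ k : Fin D.rank, c k ^ D.cartan k r) ^ a *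
    (∏ k : Fin D.rank, c k ^ D.cartan k s) ^ b
  rw [← Finset.prod_zpow, ← Finset.prod_zpow, ← Finset.prod_mul_distrib]
  refine Finset.prod_congr rfl fun k _ => ?_
  rw [← _root_.zpow_mul, ← _root_.zpow_mul, ← _root_.zpow_add]
  congr 1
  rw [cartan_eq_sum h k q, cartan_eq_sum h k r, cartan_eq_sum h k s, Finset.sum_mul, Finset.sum_mul,
    ← Finset.sum_add_distrib]
  exact Finset.sum_congr rfl fun j _ => by rw [e j j.isLt]; ring

theorem isClosed_even (h : Full D A) (c : Fin D.rank → Fˣ) {S : Set ℕ}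
    (hS : IsClosedRoots D S) : IsClosedRoots D {r | r ∈ S ∧ chi D r c = 1} := by
  refine ⟨fun r hr => hS.1 r hr.1, ?_⟩
  rintro r ⟨hr, hrc⟩ s ⟨hs, hsc⟩ hne t ht
  obtain ⟨hlt, a, b, -, -, e⟩ := h.commTerms_crd (hS.1 r hr).1 (hS.1 s hs).1 ht
  refine ⟨hS.2 r hr s hs hne t ht, ?_⟩
  have := chi_comb h c (r := ⟨r, (hS.1 r hr).1⟩) (s := ⟨s, (hS.1 s hs).1⟩) (q := ⟨t.1, hlt⟩) e
  rw [this, hrc, hsc, one_zpow, one_zpow, one_mul]

theorem mem_rootsU_even (h : Full D A) {c : Fin D.rank → Fˣ} {L : List ℕ}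
    (hs : L.Pairwise (· < ·)) (hcl : IsClosedRoots D {r | r ∈ L}) {u : GL D.Idx F}
    (hu : u ∈ rootsU D F {r | r ∈ L}) (hc : Commute (torusHom D F c) u) :
    u ∈ rootsU D F {r | r ∈ L ∧ chi D r c = 1} := by
  obtain ⟨t, -, rfl⟩ := exists_prodU h.toStd hs hcl hu
  have hlt : ∀ r ∈ L, r < D.nroots := fun r hr => (hcl.1 r hr).1
  have e := torus_conj_prodU h c t L hlt
  rw [hc.eq, mul_inv_cancel_right] at e
  have hcoef := prodU_injOn h.toStd hs hcl e
  refine Subgroup.list_prod_mem _ fun x hx => ?_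
  obtain ⟨r, hr, rfl⟩ := List.mem_map.1 hx
  by_cases hr1 : chi D r c = 1
  · exact xG_mem_rootsU h.cert (S := {r | r ∈ L ∧ chi D r c = 1}) ⟨hr, hr1⟩ _
  · have h0 : t r = 0 := by
      by_contra h0
      refine hr1 (Units.ext ?_)
      have := hcoef r hr
      rw [Units.val_one]
      exact mul_right_cancel₀ h0 (by rw [one_mul]; exact this.symm)
    rw [h0, xG_zero]
    exact one_mem _

theorem commute_rootsU (h : Full D A) {c : Fin D.rank → Fˣ} {S : Set ℕ}
    (hS : ∀ r ∈ S, chi D r c = 1) {u : GL D.Idx F} (hu : u ∈ rootsU D F S) :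
    Commute (torusHom D F c) u := by
  induction hu using rootsU_induction h.cert with
  | h1 => exact Commute.one_right _
  | hx r hr t =>
    by_cases hlt : r < D.nroots
    · have e := (acts_torus h.cert c).conj ⟨r, hlt⟩ t
      simp only [Equiv.Perm.one_apply, hS r hr, Units.val_one, one_mul] at e
      exact mul_inv_eq_iff_eq_mul.1 e
    · rw [show xG h.cert r t = 1 from Units.ext (by simp [ChevalleyDatum.x, hlt])]
      exact Commute.one_right _
  | hmul x y _ _ hx hy => exact hx.mul_right hy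

theorem commute_monomial (h : Full D A) {c : Fin D.rank → Fˣ} {n : GL D.Idx F}
    (hn : n ∈ D.monomialSubgroup F) {σ : Equiv.Perm (Fin D.nroots)} {η : Fin D.nroots → F}
    (hA : Acts h.cert n σ η) (hσ : ∀ s : Fin D.nroots, chi D (σ s) c = chi D s c) :
    Commute (torusHom D F c) n := by
  obtain ⟨c', hc'⟩ : ∃ c', torusHom D F c' = n * torusHom D F c * n⁻¹ := by
    have := monomial_conj_diagonal h hn (torus_mem_diagonal h c)
    rwa [diagonalSubgroup_eq_range h] at this
  have hchi : ∀ s : Fin D.nroots, chi D s c' = chi D s c := by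
    intro s
    obtain ⟨r, rfl⟩ := σ.surjective s
    have e := (acts_torus h.cert c').conj (σ r) (η r * 1)
    rw [hc', ← hA.conj r 1, show ∀ t x : GL D.Idx F,
      n * t * n⁻¹ * (n * x * n⁻¹) * (n * t * n⁻¹)⁻¹ = n * (t * x * t⁻¹) * n⁻¹ by intros; group,
      (acts_torus h.cert c).conj, Equiv.Perm.one_apply, Equiv.Perm.one_apply, hA.conj] at e
    have e2 := xG_injective h.cert (σ r).isLt e
    refine Units.ext ?_
    rw [hσ r]
    refine mul_right_cancel₀ (hA.ne_zero r) ?_
    linear_combination -e2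
  have heq : torusHom D F c' = torusHom D F c := by
    refine Units.ext ?_
    rw [coe_torusHom, coe_torusHom]
    congr 1
    funext a
    rcases a with j | s
    · rfl
    · simp only [Sum.elim_inr, hchi]
  rw [heq] at hc'
  exact (mul_inv_eq_iff_eq_mul.1 hc'.symm).symm

theorem card_rootsU_even [Fintype F] (h : Full D A) {c : Fin D.rank → Fˣ} {M : ℕ}
    (hM : ∀ s : Fin D.nroots, M.testBit s = true ↔ chi D s c = 1)
    {σ : Equiv.Perm (Fin D.nroots)} {η : Fin D.nroots → F} {g : GL D.Idx F}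
    (hA : Acts h.cert g σ η) :
    Nat.card (rootsU D F {r | r ∈ invSet D σ ∧ chi D r c = 1}) =
      Fintype.card F ^ (invsIn M σ).card := by
  classical
  set L := (List.range D.nroots).filter (fun r => decide (r ∈ (invsIn M σ).image Fin.val)) with hL
  have hset : {r | r ∈ L} = {r | r ∈ invSet D σ ∧ chi D r c = 1} := by
    ext r
    simp only [hL, Set.mem_ofPred_eq, List.mem_filter, List.mem_range, decide_eq_true_eq,
      Finset.mem_image, invsIn, Finset.mem_filter, mem_invs, invSet]
    constructor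
    · rintro ⟨-, s, ⟨⟨hp, hn⟩, hm⟩, rfl⟩
      exact ⟨⟨hp, s, rfl, hn⟩, (hM s).1 hm⟩
    · rintro ⟨⟨hp, s, rfl, hn⟩, hc1⟩
      exact ⟨s.isLt, s, ⟨⟨hp, hn⟩, (hM s).2 hc1⟩, rfl⟩
  have hlen : L.length = (invsIn M σ).card := by
    rw [← List.toFinset_card_of_nodup (l := L) (List.Nodup.filter _ List.nodup_range),
      ← Finset.card_image_of_injective (invsIn M σ) Fin.val_injective]
    congr 1
    ext r
    simp only [hL, List.mem_toFinset, List.mem_filter, List.mem_range, decide_eq_true_eq,
      and_iff_right_iff_imp, Finset.mem_image]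
    rintro ⟨s, -, rfl⟩
    exact s.isLt
  have h1 := card_rootsU (F := F) h.toStd (L := L) (List.Pairwise.filter _ List.pairwise_lt_range)
    (hset ▸ isClosed_even h c (isClosed_invSet h hA))
  rw [hset, hlen] at h1
  exact h1

theorem setOf_posIn (h : Full D A) {c : Fin D.rank → Fˣ} {M : ℕ}
    (hM : ∀ s : Fin D.nroots, M.testBit s = true ↔ chi D s c = 1) :
    {r | r ∈ posIn D M} = {r | D.IsPosRoot r ∧ chi D r c = 1} := by
  ext r
  simp only [Set.mem_ofPred_eq, mem_posIn h]
  exact and_congr_right fun hp => hM ⟨r, hp.1⟩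

/-- The order of the centralizer of a torus element of order two. -/
theorem card_centralizer [Fintype F] (h : Full D A) (c : Fin D.rank → Fˣ) (hc : c * c = 1) {M : ℕ}
    (hM : ∀ s : Fin D.nroots, M.testBit s = true ↔ chi D s c = 1) (ht : torusHom D F c ∈ D.group F) :
    Nat.card (Subgroup.centralizer ({⟨torusHom D F c, ht⟩} : Set (D.group F))) =
      Fintype.card F ^ (posIn D M).length * Nat.card (D.diagonalSubgroup F) *
        ∑ σ ∈ cenW h.cert M, Fintype.card F ^ (invsIn M σ).card := by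
  classical
  haveI : Finite (GL D.Idx F) := inferInstance
  have hpres : ∀ σ : Equiv.Perm (Fin D.nroots),
      (∀ s : Fin D.nroots, M.testBit (σ s) = M.testBit s) ↔ ∀ s : Fin D.nroots, chi D (σ s) c = chi D s c := by
    intro σ
    refine forall_congr' fun s => ?_
    have hsq : ∀ r : ℕ, chi D r c = 1 ∨ chi D r c = -1 := fun r => by
      have e : chi D r c * chi D r c = 1 := by rw [← map_mul, hc, map_one]
      rcases mul_self_eq_one_iff.1 (by simpa using congrArg Units.val e :
        (chi D r c : F) * chi D r c = 1) with e' | e'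
      · exact Or.inl (Units.ext e')
      · exact Or.inr (Units.ext e')
    rw [Bool.eq_iff_iff, hM, hM]
    refine ⟨fun e => ?_, fun e => by rw [e]⟩
    by_cases h1 : chi D s c = 1
    · rw [h1, e.2 h1]
    · rw [(hsq s).resolve_left h1, (hsq (σ s)).resolve_left fun h2 => h1 (e.1 h2)]
  have hl : ∀ w : cenW h.cert M, ∃ l, wPerm h.cert l = (w : Equiv.Perm _) := fun w => by
    obtain ⟨l, -, e⟩ := mem_wSet.1 (Finset.mem_filter.1 w.2).1; exact ⟨l, e⟩
  choose l hl using hl
  have hact : ∀ (w : cenW h.cert M), ∀ t ∈ D.diagonalSubgroup F,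
      ∃ η, Acts h.cert (nW h.cert F (l w) * t) (w : Equiv.Perm _) η := by
    intro w t ht
    rw [diagonalSubgroup_eq_range h] at ht
    obtain ⟨c, rfl⟩ := ht
    obtain ⟨η, hη⟩ := acts_nW (F := F) h (l w)
    have h1 := hη.mul (acts_torus h.cert c)
    rw [mul_one, hl w] at h1
    exact ⟨_, h1⟩
  have hmem : ∀ (w : cenW h.cert M), ∀ t ∈ D.diagonalSubgroup F,
      nW h.cert F (l w) * t ∈ D.monomialSubgroup F := fun w t ht =>
    mul_mem (nW_mem_monomial h _) (diagonal_le_monomial ht)
  let U := rootsU D F {r | D.IsPosRoot r ∧ chi D r c = 1}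
  let T := Subgroup.centralizer ({⟨torusHom D F c, ht⟩} : Set (D.group F))
  have hin : ∀ (w : cenW h.cert M) (u : U) (t : D.diagonalSubgroup F)
      (v : rootsU D F {r | r ∈ invSet D (w : Equiv.Perm _) ∧ chi D r c = 1}),
      Commute (torusHom D F c) ((u : GL D.Idx F) * (nW h.cert F (l w) * t) * v) := by
    intro w u t v
    obtain ⟨η, hA⟩ := hact w t t.2
    exact ((commute_rootsU h (fun r hr => hr.2) u.2).mul_right (commute_monomial h (hmem w t t.2) hA
      ((hpres _).1 (Finset.mem_filter.1 w.2).2))).mul_right (commute_rootsU h (fun r hr => hr.2) v.2)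
  let f : (Σ w : cenW h.cert M, (U × D.diagonalSubgroup F) ×
      rootsU D F {r | r ∈ invSet D (w : Equiv.Perm _) ∧ chi D r c = 1}) → T := fun x =>
    ⟨⟨(x.2.1.1 : GL D.Idx F) * (nW h.cert F (l x.1) * x.2.1.2) * x.2.2,
      mul_mem (mul_mem (rootsU_le_group h.cert _ x.2.1.1.2)
        (monomial_le_group h.cert (hmem _ _ x.2.1.2.2)))
        (rootsU_le_group h.cert _ x.2.2.2)⟩,
      Subgroup.mem_centralizer_singleton_iff.2 (Subtype.ext (hin x.1 x.2.1.1 x.2.1.2 x.2.2).eq.symm)⟩
  have hf : Function.Bijective f := by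
    constructor
    · rintro ⟨w, ⟨u, t⟩, v⟩ ⟨w', ⟨u', t'⟩, v'⟩ e
      have e' : (u : GL D.Idx F) * (nW h.cert F (l w) * t) * v =
          (u' : GL D.Idx F) * (nW h.cert F (l w') * t') * v' :=
        congrArg (fun x : T => ((x : D.group F) : GL D.Idx F)) e
      obtain ⟨η, hA⟩ := hact w t t.2
      obtain ⟨η', hA'⟩ := hact w' t' t'.2
      obtain ⟨e1, e2, e3⟩ := canonical_unique h
        (rootsU_mono (T := {r | D.IsPosRoot r}) (fun r hr => hr.1) u.2)
        (rootsU_mono (T := {r | D.IsPosRoot r}) (fun r hr => hr.1) u'.2)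
        (hmem w t t.2) (hmem w' t' t'.2) hA hA'
        (rootsU_mono (fun r hr => hr.1) v.2) (rootsU_mono (fun r hr => hr.1) v'.2) e'
      have hw : w = w' := Subtype.ext (hA.perm_eq (e2 ▸ hA'))
      subst hw
      have htt : t = t' := Subtype.ext (mul_left_cancel e2)
      rw [Subtype.ext e1, htt, Subtype.ext e3]
    · rintro ⟨⟨g, hg⟩, hgT⟩
      have hcg : Commute (torusHom D F c) g :=
        (congrArg Subtype.val (Subgroup.mem_centralizer_singleton_iff.1 hgT)).symm
      obtain ⟨u, hu, n, hn, σ, η, hA, v, hv, rfl⟩ := exists_canonical h hg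
      set d := torusHom D F c with hd
      have hdH : d ∈ D.diagonalSubgroup F := torus_mem_diagonal h c
      obtain ⟨η', hA'⟩ : ∃ η', Acts h.cert (d * n * d⁻¹) σ η' := by
        have := ((acts_torus h.cert c).mul hA).mul (acts_torus h.cert c⁻¹)
        rw [map_inv, ← hd, mul_one, one_mul] at this
        exact ⟨_, this⟩
      have hn' : d * n * d⁻¹ ∈ D.monomialSubgroup F :=
        mul_mem (mul_mem (diagonal_le_monomial hdH) hn) (inv_mem (diagonal_le_monomial hdH))
      obtain ⟨eu, en, ev⟩ := canonical_unique h (diagonal_conj_rootsU h _ d hdH u hu) hu hn' hn hA' hA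
        (diagonal_conj_rootsU h _ d hdH v hv) hv
        (by rw [show d * u * d⁻¹ * (d * n * d⁻¹) * (d * v * d⁻¹) = d * (u * n * v) * d⁻¹ by group,
          hcg.eq, mul_inv_cancel_right])
      have hu2 : u ∈ U := mem_rootsU_of_commute h hu (mul_inv_eq_iff_eq_mul.1 eu)
      set L := (List.range D.nroots).filter (fun r => decide (r ∈ invSet D σ)) with hL
      have hLset : {r | r ∈ L} = invSet D σ := by
        ext r
        simp only [hL, Set.mem_ofPred_eq, List.mem_filter, List.mem_range, decide_eq_true_eq,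
          and_iff_right_iff_imp]
        exact fun hr => hr.1.1
      have hv2 : v ∈ rootsU D F {r | r ∈ invSet D σ ∧ chi D r c = 1} := by
        have := mem_rootsU_even h (L := L) (List.Pairwise.filter _ List.pairwise_lt_range)
          (hLset ▸ isClosed_invSet h hA) (hLset ▸ hv) (mul_inv_eq_iff_eq_mul.1 ev)
        refine rootsU_mono (T := {r | r ∈ invSet D σ ∧ chi D r c = 1}) ?_ this
        exact fun r hr => ⟨(Set.ext_iff.1 hLset r).1 hr.1, hr.2⟩
      have hσc : ∀ s : Fin D.nroots, chi D (σ s) c = chi D s c := fun s => by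
        have he := congrArg
          (fun g : GL D.Idx F => (g : Matrix D.Idx D.Idx F) (Sum.inr (σ s)) (Sum.inr s))
          (mul_inv_eq_iff_eq_mul.1 en)
        simp only [hd, Units.val_mul, coe_torusHom, Matrix.diagonal_mul, Matrix.mul_diagonal, hA.col,
          if_true, Sum.elim_inr] at he
        rw [mul_comm] at he
        exact Units.ext (mul_left_cancel₀ (hA.ne_zero s) he)
      obtain ⟨l₀, t₀, ht₀, rfl⟩ := (mem_monomial_iff h).1 hn
      obtain ⟨c₀, rfl⟩ : ∃ c₀, torusHom D F c₀ = t₀ := by rwa [diagonalSubgroup_eq_range h] at ht₀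
      obtain ⟨η₀, hη₀⟩ := acts_nW (F := F) h l₀
      have hσ := hA.perm_eq (hη₀.mul (acts_torus h.cert c₀))
      rw [mul_one] at hσ
      subst hσ
      let w : cenW h.cert M :=
        ⟨_, Finset.mem_filter.2 ⟨mem_wSet_rank h.cert l₀, (hpres _).2 hσc⟩⟩
      set m := nW h.cert F (l w)
      have hm : m⁻¹ * (nW h.cert F l₀ * torusHom D F c₀) ∈ D.diagonalSubgroup F := by
        have hmem' : m⁻¹ * (nW h.cert F l₀ * torusHom D F c₀) ∈ D.monomialSubgroup F :=
          Subgroup.mul_mem _ (Subgroup.inv_mem _ (nW_mem_monomial h _)) hn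
        obtain ⟨τ, θ, hB⟩ := exists_acts h hmem'
        refine mem_diagonal_of_perm h hmem' hB fun i => ?_
        obtain ⟨η₁, hη₁⟩ := acts_nW (F := F) h (l w)
        have h1 := hη₁.mul hB
        rw [mul_inv_cancel_left] at h1
        have h2 := h1.perm_eq hA
        rw [hl w] at h2
        have h3 : τ = 1 := mul_left_cancel (a := wPerm h.cert l₀) (h2.trans (mul_one _).symm)
        rw [h3]
        exact h.simple_pos i.isLt
      refine ⟨⟨w, (⟨u, hu2⟩, ⟨_, hm⟩), ⟨v, hv2⟩⟩, Subtype.ext (Subtype.ext ?_)⟩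
      show u * (m * (m⁻¹ * (nW h.cert F l₀ * torusHom D F c₀))) * v = _
      rw [mul_inv_cancel_left]
  have hU : Nat.card U = Fintype.card F ^ (posIn D M).length := by
    have h1 := card_rootsU (F := F) h.toStd (L := posIn D M) (pairwise_posIn M) (by
      rw [setOf_posIn h hM]; exact isClosed_even h c h.isClosed_pos)
    rw [setOf_posIn h hM] at h1
    exact h1
  rw [← Nat.card_eq_of_bijective f hf, Nat.card_sigma, Finset.mul_sum,
    ← Finset.sum_coe_sort (cenW h.cert M)]
  refine Finset.sum_congr rfl fun w _ => ?_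
  rw [Nat.card_prod, Nat.card_prod, hU]
  obtain ⟨η, hη⟩ := hact w 1 (one_mem _)
  rw [card_rootsU_even h hM hη]

end CfsgLib.InvCentralizers.ChevInvolution
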