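import Cfsg.Agent.Lib.InvCentralizers.ChevInvolution.SLTwo
import Cfsg.Agent.Lib.Chevalley.Order

/-!
In a Chevalley group over a finite field of odd order whose torus map is injective, every
involution is conjugate into the diagonal subgroup.
-/

set_option autoImplicit false
set_option linter.unusedSectionVars false

namespace CfsgLib.InvCentralizers.ChevInvolution

open Cfsg.Lie CfsgLib.Chevalley

/-- What is needed of a datum. -/
structure InvData (D : ChevalleyDatum) (A : Aux) : Prop where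
  /-- adjacent fundamental roots pair oddly on one side -/
  adj : ∀ i j : Fin D.rank, i ≠ j → D.cartan i (D.simple j) ≠ 0 →
    Odd (D.cartan i (D.simple j)) ∨ Odd (D.cartan j (D.simple i))
  /-- orthogonal fundamental roots have trivial signs -/
  orth : ∀ i j : Fin D.rank, i ≠ j → D.cartan i (D.simple j) = 0 → etaAt A i (D.simple j) = 1

variable {D : ChevalleyDatum} {A : Aux} {F : Type*} [Field F]

theorem crd_ngR (hC : Cert D A) (s : Fin D.nroots) {k : ℕ} (hk : k < D.rank) :
    crd A k (ngR hC s) = -crd A k s := (neg_facts hC hk s.isLt).1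

theorem crd_smp (hC : Cert D A) (i : Fin D.rank) {k : ℕ} (hk : k < D.rank) :
    crd A k (smp hC i) = if k = (i : ℕ) then 1 else 0 := crd_simple hC hk i.isLt

theorem ngR_smp_ne (hC : Cert D A) (i : Fin D.rank) : ngR hC (smp hC i) ≠ smp hC i := fun e => by
  have h := crd_ngR hC (smp hC i) i.isLt
  rw [e, crd_smp hC i i.isLt, if_pos rfl] at h
  omega

theorem sigma_invol (h : Full D A) {n : GL D.Idx F} {σ : Equiv.Perm (Fin D.nroots)}
    {η : Fin D.nroots → F} (hA : Acts h.cert n σ η) (hn : n * n = 1) (s : Fin D.nroots) :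
    σ (σ s) = s := by
  have h2 := hA.mul hA
  rw [hn] at h2
  exact Equiv.ext_iff.1 (h2.perm_eq (acts_one h.cert)) s

/-! ### Reduction to a monomial involution -/

theorem pow_card_sub_one [Fintype F] (c : Fin D.rank → Fˣ) :
    torusHom D F c ^ (Fintype.card F - 1) = 1 := by
  classical
  rw [← map_pow, ← Fintype.card_units, show c ^ Fintype.card Fˣ = 1 from funext fun i => by
    rw [Pi.pow_apply, pow_card_eq_one, Pi.one_apply], map_one]

theorem exists_monomial_conj (h : Full D A) [Fintype F] (hodd : Odd (Fintype.card F))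
    {t : GL D.Idx F} (ht : t ∈ D.group F) (h2 : t * t = 1) :
    ∃ g ∈ D.group F, g * t * g⁻¹ ∈ D.monomialSubgroup F := by
  classical
  obtain ⟨u, hu, n, hn, σ, η, hA, v, hv, rfl⟩ := exists_canonical h ht
  have hU : ∀ x ∈ D.posUnipotent F, x ∈ D.group F :=
    fun x hx => rootsU_le_group h.cert {r | D.IsPosRoot r} hx
  have hvU : v ∈ D.posUnipotent F := rootsU_mono (T := {r | D.IsPosRoot r}) (fun r hr => hr.1) hv
  set w := v * u with hwdef
  have hw : w ∈ D.posUnipotent F := mul_mem hvU hu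
  have e1 : n * w * (n * w) = 1 := by
    have : u⁻¹ * (u * n * v * (u * n * v)) * u = 1 := by rw [h2]; group
    rw [← this, hwdef]; group
  have hwn : w * n * w = n⁻¹ := by
    rw [eq_inv_iff_mul_eq_one, ← e1]
    calc w * n * w * n = n⁻¹ * (n * w * (n * w)) * n := by group
      _ = n * w * (n * w) := by rw [e1]; group
  have hd := monomial_unique h hn (inv_mem hn) (Subgroup.mem_sup_left hw : w ∈ D.borelSubgroup F)
    (Subgroup.mem_sup_left hw) hwn
  set d := n⁻¹ * n⁻¹ with hdd
  obtain ⟨c, hc⟩ : ∃ c, torusHom D F c = d := by rwa [diagonalSubgroup_eq_range h] at hd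
  have hy : n⁻¹ * w * n = d * w⁻¹ := by
    calc n⁻¹ * w * n = n⁻¹ * (w * n * w) * w⁻¹ := by group
      _ = d * w⁻¹ := by rw [hwn, hdd]
  -- `d` is trivial: a conjugate of `w` has order dividing a power of `q`
  set Q := Nat.card (D.posUnipotent F) with hQ
  have hwQ : w ^ Q = 1 := by
    have := pow_card_eq_one' (x := (⟨w, hw⟩ : D.posUnipotent F))
    exact congrArg Subtype.val this
  have hyQ : (d * w⁻¹) ^ Q = 1 := by
    rw [← hy, show n⁻¹ * w * n = n⁻¹ * w * (n⁻¹)⁻¹ by rw [inv_inv], conj_pow, hwQ]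
    group
  have hpow : ∀ k : ℕ, ∃ x ∈ D.posUnipotent F, (d * w⁻¹) ^ k = x * d ^ k := by
    intro k
    induction k with
    | zero => exact ⟨1, one_mem _, by simp⟩
    | succ k ih =>
      obtain ⟨x, hx, e⟩ := ih
      refine ⟨x * (d ^ (k + 1) * w⁻¹ * (d ^ (k + 1))⁻¹), mul_mem hx ?_, ?_⟩
      · exact diagonal_conj_rootsU h {r | D.IsPosRoot r} _ (pow_mem hd _) _ (inv_mem hw)
      · rw [pow_succ, e, pow_succ]; group
  obtain ⟨x, hx, ex⟩ := hpow Q
  rw [hyQ] at ex
  have hdQ : d ^ Q = 1 := by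
    refine eq_one_of_mem_pos_diagonal h ?_ (pow_mem hd _)
    rw [eq_inv_of_mul_eq_one_right ex.symm]
    exact inv_mem hx
  have hd1 : d = 1 := by
    have h1 : orderOf d ∣ Q := orderOf_dvd_of_pow_eq_one hdQ
    have h3 : orderOf d ∣ Fintype.card F - 1 :=
      orderOf_dvd_of_pow_eq_one (hc ▸ pow_card_sub_one c)
    have hcop : Nat.Coprime Q (Fintype.card F - 1) := by
      rw [hQ, card_posUnipotent h]
      refine Nat.Coprime.pow_left _ ?_
      have h0 : 1 ≤ Fintype.card F := Fintype.card_pos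
      refine (Nat.coprime_self_sub_right h0).2 (Nat.coprime_one_right _)
    exact orderOf_eq_one_iff.1 (Nat.dvd_one.1 (hcop ▸ Nat.dvd_gcd h1 h3))
  have hn2 : n * n = 1 := by
    have := hdd ▸ hd1
    calc n * n = (n⁻¹ * n⁻¹)⁻¹ := by rw [_root_.mul_inv_rev, inv_inv]
      _ = 1 := by rw [this, inv_one]
  have hninv : n⁻¹ = n := inv_eq_of_mul_eq_one_right hn2
  obtain ⟨m, hm⟩ : Odd Q := by rw [hQ, card_posUnipotent h]; exact hodd.pow
  set y := w ^ (m + 1) with hydef
  have hyy : y * y = w := by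
    rw [hydef, ← pow_add, show m + 1 + (m + 1) = (2 * m + 1) + 1 by ring, ← hm, pow_succ, hwQ,
      one_mul]
  have hny : n * y * n = y⁻¹ := by
    rw [hd1, one_mul] at hy
    have : n⁻¹ * y * n = y⁻¹ := by
      rw [hydef, show n⁻¹ * w ^ (m + 1) * n = n⁻¹ * w ^ (m + 1) * (n⁻¹)⁻¹ by rw [inv_inv],
        ← conj_pow, inv_inv, hy, inv_pow]
    rwa [hninv] at this
  refine ⟨y * u⁻¹, mul_mem (pow_mem (hU w hw) _) (inv_mem (hU u hu)), ?_⟩
  have hfin : y * u⁻¹ * (u * n * v) * (y * u⁻¹)⁻¹ = n := by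
    calc y * u⁻¹ * (u * n * v) * (y * u⁻¹)⁻¹ = y * (n * w) * y⁻¹ := by rw [hwdef]; group
      _ = y * (n * y) := by rw [← hyy]; group
      _ = y * ((n * y * n) * n) := by rw [mul_assoc (n * y), hn2, mul_one]
      _ = n := by rw [hny]; group
  rw [hfin]
  exact hn

/-! ### Descent on the perm -/

/-- The roots negated by a permutation. -/
def negd (hC : Cert D A) (σ : Equiv.Perm (Fin D.nroots)) : Finset (Fin D.nroots) :=
  Finset.univ.filter fun s => σ s = ngR hC s

theorem mem_negd {hC : Cert D A} {σ : Equiv.Perm (Fin D.nroots)} {s : Fin D.nroots} :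
    s ∈ negd hC σ ↔ σ s = ngR hC s := by simp [negd]

theorem nG_mem_monomial (h : Full D A) (i : Fin D.rank) {c : F} (hc : c ≠ 0) :
    nG h.cert (D.simple i) c ∈ D.monomialSubgroup F := by
  have h1 := diagonal_le_monomial (nG_simple_mem_diagonal_mul h i hc)
  have h2 : nG h.cert (D.simple i) (1 : F) ∈ D.monomialSubgroup F :=
    Subgroup.mem_sup_right (Subgroup.subset_closure
      ⟨_, h.cert.wf.simple_lt i i.isLt, coe_nG _ _ _⟩)
  have := mul_mem h1 h2
  rwa [inv_mul_cancel_right] at this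

theorem descend (h : Full D A) {n : GL D.Idx F} {σ : Equiv.Perm (Fin D.nroots)}
    {η : Fin D.nroots → F} (hA : Acts h.cert n σ η) (hn2 : n * n = 1) (i : Fin D.rank)
    (hneg : D.IsNegRoot (σ (smp h.cert i))) (hne : σ (smp h.cert i) ≠ ngR h.cert (smp h.cert i)) :
    ∃ σ' η', Acts h.cert
        (nG h.cert (D.simple i) (1 : F) * n * (nG h.cert (D.simple i) 1)⁻¹) σ' η' ∧
      (negd h.cert σ').card = (negd h.cert σ).card ∧ (invs σ').card < (invs σ).card := by
  classical
  have hA' : ∃ η', Acts h.cert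
      (nG h.cert (D.simple i) (1 : F) * n * (nG h.cert (D.simple i) 1)⁻¹)
      (rfPerm h.cert i * σ * rfPerm h.cert i) η' := by
    rw [nG_inv]
    exact ⟨_, ((acts_nG_simple h i one_ne_zero).mul hA).mul
      (acts_nG_simple h i (neg_ne_zero.2 one_ne_zero))⟩
  obtain ⟨η', hA'⟩ := hA'
  refine ⟨_, η', hA', ?_, ?_⟩
  · refine Finset.card_nbij' (fun s => rf h.cert i s) (fun s => rf h.cert i s) ?_ ?_
      (fun s _ => rf_rf h.cert i s) (fun s _ => rf_rf h.cert i s)
    · intro s hs
      simp only [Finset.mem_coe, mem_negd, Equiv.Perm.mul_apply, rfPerm_apply] at hs ⊢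
      have := congrArg (rf h.cert i) hs
      rwa [rf_rf, rf_ngR] at this
    · intro s hs
      simp only [Finset.mem_coe, mem_negd, Equiv.Perm.mul_apply, rfPerm_apply] at hs ⊢
      rw [rf_rf, hs, rf_ngR]
  · have hmem : smp h.cert i ∈ invs σ := mem_invs.2 ⟨h.simple_pos i.isLt, hneg⟩
    refine lt_of_le_of_lt (Finset.card_le_card_of_injOn (t := (invs σ).erase (smp h.cert i))
      (fun r => rf h.cert i r) ?_ fun a _ b _ e => by simpa [rf_rf] using congrArg (rf h.cert i) e)
      (Finset.card_erase_lt_of_mem hmem)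
    intro r hr
    simp only [Finset.mem_coe, mem_invs, Equiv.Perm.mul_apply, rfPerm_apply] at hr
    obtain ⟨hr, hn⟩ := hr
    simp only [Finset.mem_coe, Finset.mem_erase, mem_invs]
    have hri : r ≠ smp h.cert i := by
      rintro rfl
      rw [rf_smp, hA.neg] at hn
      have hp : D.IsPosRoot (ngR h.cert (σ (smp h.cert i))) := h.neg_isPos hneg
      have hne' : ngR h.cert (σ (smp h.cert i)) ≠ smp h.cert i := fun e => hne (by
        have := congrArg (ngR h.cert) e
        rwa [ngR_ngR] at this)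
      exact h.pos_not_neg (h.rf_ne_simple_pos i hp hne') hn
    have hpr := h.rf_ne_simple_pos i hr hri
    refine ⟨fun e => ?_, hpr, ?_⟩
    · have := congrArg (rf h.cert i) e
      rw [rf_rf, rf_smp] at this
      rw [this] at hr
      exact h.pos_not_neg (h.simple_pos i.isLt) ((h.neg_pos_iff (smp h.cert i).isLt).1 hr)
    · refine (h.pos.pos_or_neg (σ (rf h.cert i r)).isLt).resolve_left fun hp => ?_
      by_cases he : σ (rf h.cert i r) = smp h.cert i
      · have := congrArg σ he
        rw [sigma_invol h hA hn2] at this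
        rw [this] at hpr
        exact h.pos_not_neg hpr hneg
      · exact h.pos_not_neg (h.rf_ne_simple_pos i hp he) hn

/-! ### The two steps -/

theorem conj_pair (h : Full D A) {n : GL D.Idx F} {σ : Equiv.Perm (Fin D.nroots)}
    {η : Fin D.nroots → F} (hA : Acts h.cert n σ η) (i : Fin D.rank)
    (hi : σ (smp h.cert i) = ngR h.cert (smp h.cert i)) :
    (∀ t, n * xG h.cert (D.simple i) t * n⁻¹ =
        xG h.cert (D.neg (D.simple i)) (η (smp h.cert i) * t)) ∧
    (∀ t, n * xG h.cert (D.neg (D.simple i)) t * n⁻¹ =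
        xG h.cert (D.simple i) ((η (smp h.cert i))⁻¹ * t)) := by
  refine ⟨fun t => ?_, fun t => ?_⟩
  · have := hA.conj (smp h.cert i) t
    rw [hi] at this
    exact this
  · have := hA.conj (ngR h.cert (smp h.cert i)) t
    rw [hA.neg, hi, ngR_ngR, eq_inv_of_mul_eq_one_right (hA.inv (smp h.cert i))] at this
    exact this

theorem two_ne_zero_of_odd [Fintype F] (hodd : Odd (Fintype.card F)) : ringChar F ≠ 2 := fun e => by
  have := FiniteField.even_card_of_char_two e
  rcases hodd with ⟨k, hk⟩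
  omega

theorem square_step (h : Full D A) [Fintype F] (hodd : Odd (Fintype.card F)) {n : GL D.Idx F}
    (hn : n ∈ D.monomialSubgroup F) {σ : Equiv.Perm (Fin D.nroots)} {η : Fin D.nroots → F}
    (hA : Acts h.cert n σ η) (hn2 : n * n = 1) (i : Fin D.rank)
    (hi : σ (smp h.cert i) = ngR h.cert (smp h.cert i)) (hsq : IsSquare (η (smp h.cert i))) :
    ∃ g ∈ D.group F, g⁻¹ * n * g ∈ D.monomialSubgroup F ∧ ∃ σ' η',
      Acts h.cert (g⁻¹ * n * g) σ' η' ∧ (negd h.cert σ').card < (negd h.cert σ).card := by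
  classical
  obtain ⟨b, hb⟩ := hsq
  obtain ⟨hx, hy⟩ := conj_pair h hA i hi
  have hb0 : b ≠ 0 := fun e => hA.ne_zero (smp h.cert i) (by rw [hb, e, mul_zero])
  rw [hb] at hx hy
  have hxK : ∀ r, r < D.nroots → ∀ t : F, xG h.cert r t ∈ D.group F :=
    fun r _ t => xG_mem_group h.cert r t
  obtain ⟨g, hg, e⟩ := exists_square_step (slRel_simple (F := F) h i)
    (Ring.two_ne_zero (two_ne_zero_of_odd hodd)) hb0 hx hy
    (fun t => xG_mem_group h.cert _ t) (fun t => xG_mem_group h.cert _ t)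
  have e' : g⁻¹ * n * g = nG h.cert (D.simple i) b⁻¹ * n := e
  refine ⟨g, hg, e' ▸ mul_mem (nG_mem_monomial h i (inv_ne_zero hb0)) hn, _, _,
    e' ▸ (acts_nG_simple h i (inv_ne_zero hb0)).mul hA, ?_⟩
  have hfix : ∀ s, s ∈ negd h.cert (rfPerm h.cert i * σ) → σ s = ngR h.cert s := by
    intro s hs
    rw [mem_negd, Equiv.Perm.mul_apply, rfPerm_apply] at hs
    have hσs : σ s = ngR h.cert (rf h.cert i s) := by
      have := congrArg (rf h.cert i) hs
      rwa [rf_rf, rf_ngR] at this
    set k := D.cartan i s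
    have hcrd : ∀ x < D.rank, crd A x (σ s) = -crd A x s + k * (if x = (i : ℕ) then 1 else 0) := by
      intro x hx
      rw [hσs, crd_ngR h.cert _ hx, h.crd_rf i hx]
      simp only [eq_comm (a := x)]
      ring
    have hx := hA.lin i i.isLt (σ s)
    rw [sigma_invol h hA hn2] at hx
    rw [Finset.sum_congr rfl fun j _ => by rw [hcrd j j.isLt, add_mul, neg_mul],
      Finset.sum_add_distrib, Finset.sum_neg_distrib, ← hA.lin i i.isLt s,
      Finset.sum_eq_single i (fun j _ hj => by
        rw [if_neg (fun e => hj (Fin.ext e)), mul_zero, zero_mul]) (by simp),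
      if_pos rfl, hcrd i i.isLt, if_pos rfl, hi, crd_ngR h.cert _ i.isLt, crd_smp h.cert i i.isLt,
      if_pos rfl] at hx
    have hk : k = 0 := by linarith
    rw [hσs]
    congr 1
    exact crd_ext h fun x hx => by rw [h.crd_rf i hx]; simp [k, hk]
  refine Finset.card_lt_card ⟨fun s hs => mem_negd.2 (hfix s hs), fun hle => ?_⟩
  have := hle (mem_negd.2 hi)
  rw [mem_negd, Equiv.Perm.mul_apply, rfPerm_apply, hi, rf_ngR, rf_smp, ngR_ngR] at this
  exact ngR_smp_ne h.cert i this.symm

theorem isSquare_mul_of_not [Fintype F] [DecidableEq F] (_hF : ringChar F ≠ 2) {a b : F}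
    (ha : ¬ IsSquare a) (hb : ¬ IsSquare b) : IsSquare (a * b) := by
  have ha0 : a ≠ 0 := fun e => ha (e ▸ IsSquare.zero)
  have hb0 : b ≠ 0 := fun e => hb (e ▸ IsSquare.zero)
  refine (quadraticChar_one_iff_isSquare (mul_ne_zero ha0 hb0)).1 ?_
  rw [map_mul, quadraticChar_neg_one_iff_not_isSquare.2 ha,
    quadraticChar_neg_one_iff_not_isSquare.2 hb]
  norm_num

theorem flip_step (h : Full D A) [Fintype F] (hodd : Odd (Fintype.card F)) {n : GL D.Idx F}
    (hn : n ∈ D.monomialSubgroup F) {σ : Equiv.Perm (Fin D.nroots)} {η : Fin D.nroots → F}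
    (hA : Acts h.cert n σ η) (i j : Fin D.rank)
    (hi : σ (smp h.cert i) = ngR h.cert (smp h.cert i))
    (hj : σ (smp h.cert j) = ngR h.cert (smp h.cert j))
    (hsi : ¬ IsSquare (η (smp h.cert i))) (hsj : ¬ IsSquare (η (smp h.cert j)))
    (hod : Odd (D.cartan i (D.simple j))) :
    ∃ g ∈ D.group F, g⁻¹ * n * g ∈ D.monomialSubgroup F ∧ ∃ η',
      Acts h.cert (g⁻¹ * n * g) σ η' ∧ IsSquare (η' (smp h.cert j)) := by
  classical
  set a := η (smp h.cert i) with ha
  have ha0 : a ≠ 0 := hA.ne_zero _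
  obtain ⟨hx, hy⟩ := conj_pair h hA i hi
  obtain ⟨g, hg, e⟩ := exists_flip_step (slRel_simple (F := F) h i) (two_ne_zero_of_odd hodd) ha0
    hx hy (fun t => xG_mem_group h.cert _ t) (fun t => xG_mem_group h.cert _ t) ha0
  have e' : g⁻¹ * n * g = torusHom D F (Pi.mulSingle i (Units.mk0 a ha0)) * n :=
    e.trans (congrArg (· * n) (hG_simple h.cert i ha0))
  have hA' := (acts_torus h.cert (Pi.mulSingle i (Units.mk0 a ha0))).mul hA
  rw [one_mul] at hA'
  refine ⟨g, hg, e' ▸ mul_mem (diagonal_le_monomial (torus_mem_diagonal h _)) hn, _, e' ▸ hA', ?_⟩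
  show IsSquare (((chi D (σ (smp h.cert j)) (Pi.mulSingle i (Units.mk0 a ha0)) : Fˣ) : F) *
    η (smp h.cert j))
  rw [hj, chi_mulSingle, Units.val_zpow_eq_zpow_val, Units.val_mk0,
    show D.cartan i (ngR h.cert (smp h.cert j)) = -D.cartan i (D.simple j) from
      (neg_facts h.cert i.isLt (smp h.cert j).isLt).2.1]
  obtain ⟨k, hk⟩ := hod.neg
  rw [hk, _root_.zpow_add₀ ha0, zpow_one, two_mul, _root_.zpow_add₀ ha0, mul_assoc]
  exact IsSquare.mul ⟨_, rfl⟩ (isSquare_mul_of_not (two_ne_zero_of_odd hodd) hsi hsj)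

/-! ### The terminal case -/

/-- A list of pairwise orthogonal fundamental roots. -/
def OrthList (D : ChevalleyDatum) (l : List (Fin D.rank)) : Prop :=
  l.Pairwise fun (i j : Fin D.rank) => D.cartan i (D.simple j) = 0 ∧ D.cartan j (D.simple i) = 0

theorem crd_wPerm_of_notMem (h : Full D A) : ∀ (l : List (Fin D.rank)) (s : Fin D.nroots)
    (x : Fin D.rank), x ∉ l → crd A x (wPerm h.cert l s) = crd A x s := by
  intro l
  induction l with
  | nil => intro s x _; rfl
  | cons i l ih =>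
    intro s x hx
    rw [List.mem_cons, not_or] at hx
    rw [wPerm_cons, Equiv.Perm.mul_apply, rfPerm_apply, h.crd_rf i x.isLt,
      if_neg (fun e => hx.1 (Fin.ext e.symm)), mul_zero, sub_zero, ih s x hx.2]

theorem rf_orth (h : Full D A) {i j : Fin D.rank} (e : D.cartan i (D.simple j) = 0) :
    rf h.cert i (smp h.cert j) = smp h.cert j :=
  crd_ext h fun x hx => by
    rw [h.crd_rf i hx, show D.cartan i (smp h.cert j) = 0 from e]; ring

/-- The properties of the product of orthogonal fundamental reflections. -/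
theorem orth_word (h : Full D A) (H : InvData D A) : ∀ l : List (Fin D.rank), l.Nodup → OrthList D l →
    (∀ j, j ∉ l → (∀ i ∈ l, D.cartan i (D.simple j) = 0 ∧ i ≠ j) →
      wPerm h.cert l (smp h.cert j) = smp h.cert j ∧
      ∀ t : F, nW h.cert F l * xG h.cert (D.simple j) t * (nW h.cert F l)⁻¹ =
        xG h.cert (D.simple j) t) ∧
    (∀ j ∈ l, wPerm h.cert l (smp h.cert j) = ngR h.cert (smp h.cert j) ∧
      ∀ t : F, nW h.cert F l * xG h.cert (D.simple j) t * (nW h.cert F l)⁻¹ =
        xG h.cert (D.neg (D.simple j)) (-t)) := by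
  intro l
  induction l with
  | nil =>
    refine fun _ _ => ⟨fun j _ _ => ⟨rfl, fun t => by simp⟩, fun j hj => absurd hj List.not_mem_nil⟩
  | cons i l ih =>
    intro hnd ho
    rw [List.nodup_cons] at hnd
    rw [OrthList, List.pairwise_cons] at ho
    obtain ⟨ih1, ih2⟩ := ih hnd.2 ho.2
    have hAi := acts_nG_simple (F := F) h i one_ne_zero
    have hconj : ∀ (s : ℕ) (t : F),
        nW h.cert F (i :: l) * xG h.cert s t * (nW h.cert F (i :: l))⁻¹ =
          nG h.cert (D.simple i) (1 : F) *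
            (nW h.cert F l * xG h.cert s t * (nW h.cert F l)⁻¹) *
            (nG h.cert (D.simple i) 1)⁻¹ := fun s t => by rw [nW_cons]; group
    have hfix : ∀ j : Fin D.rank, D.cartan i (D.simple j) = 0 → i ≠ j → ∀ t : F,
        nG h.cert (D.simple i) (1 : F) * xG h.cert (D.simple j) t *
            (nG h.cert (D.simple i) 1)⁻¹ = xG h.cert (D.simple j) t ∧
        nG h.cert (D.simple i) (1 : F) * xG h.cert (D.neg (D.simple j)) t *
            (nG h.cert (D.simple i) 1)⁻¹ = xG h.cert (D.neg (D.simple j)) t := by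
      intro j e hne t
      have h1 := hAi.conj (smp h.cert j) t
      have h2 := hAi.conj (ngR h.cert (smp h.cert j)) t
      rw [rfPerm_apply, rf_orth h e] at h1
      rw [rfPerm_apply, rf_ngR, rf_orth h e, eq_inv_of_mul_eq_one_right (hAi.inv (smp h.cert j))]
        at h2
      simp only [smp, H.orth i j hne e, Int.cast_one, one_zpow, mul_one, one_mul, inv_one]
        at h1 h2
      exact ⟨h1, h2⟩
    refine ⟨fun j hj hall => ?_, fun j hj => ?_⟩
    · rw [List.mem_cons, not_or] at hj
      obtain ⟨e, hne⟩ := hall i (List.mem_cons_self ..)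
      obtain ⟨p1, p2⟩ := ih1 j hj.2 fun k hk => hall k (List.mem_cons_of_mem _ hk)
      refine ⟨by rw [wPerm_cons, Equiv.Perm.mul_apply, p1, rfPerm_apply, rf_orth h e], fun t => ?_⟩
      rw [hconj, p2 t]
      exact (hfix j e hne t).1
    · by_cases hji : j = i
      · subst hji
        obtain ⟨p1, p2⟩ := ih1 j hnd.1 fun k hk => ⟨(ho.1 k hk).2, fun e => hnd.1 (e ▸ hk)⟩
        refine ⟨by rw [wPerm_cons, Equiv.Perm.mul_apply, p1, rfPerm_apply, rf_smp], fun t => ?_⟩
        rw [hconj, p2 t]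
        have h1 := hAi.conj (smp h.cert j) t
        rw [rfPerm_apply, rf_smp] at h1
        refine h1.trans ?_
        simp only [one_zpow, mul_one, smp,
          (refl_spec h.cert j.isLt (h.cert.wf.simple_lt j j.isLt)).2.2.2.2.2.2.1 rfl,
          Int.cast_neg, Int.cast_one, neg_mul, one_mul]
        rfl
      · have hjl : j ∈ l := (List.mem_cons.1 hj).resolve_left hji
        obtain ⟨e, e'⟩ := ho.1 j hjl
        obtain ⟨p1, p2⟩ := ih2 j hjl
        refine ⟨by rw [wPerm_cons, Equiv.Perm.mul_apply, p1, rfPerm_apply, rf_ngR, rf_orth h e],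
          fun t => ?_⟩
        rw [hconj, p2 t]
        exact (hfix j e (Ne.symm hji) _).2

theorem nG_commute_nW (h : Full D A) (H : InvData D A) {i : Fin D.rank} {l : List (Fin D.rank)}
    (hl : ∀ j ∈ l, D.cartan i (D.simple j) = 0 ∧ i ≠ j) :
    Commute (nG h.cert (D.simple i) (1 : F)) (nW h.cert F l) := by
  induction l with
  | nil => simp
  | cons j l ih =>
    rw [nW_cons]
    refine Commute.mul_right ?_ (ih fun k hk => hl k (List.mem_cons_of_mem _ hk))
    obtain ⟨e, hne⟩ := hl j (List.mem_cons_self ..)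
    have h1 := (acts_nG_simple (F := F) h i one_ne_zero).conj_nG (smp h.cert j) 1
    rw [rfPerm_apply, rf_orth h e] at h1
    simp only [smp, H.orth i j hne e, Int.cast_one, one_zpow, mul_one] at h1
    exact mul_inv_eq_iff_eq_mul.1 h1

theorem nW_sq (h : Full D A) (H : InvData D A) : ∀ l : List (Fin D.rank), l.Nodup → OrthList D l →
    nW h.cert F l * nW h.cert F l =
      torusHom D F (fun x => if x ∈ l then (-1 : Fˣ) else 1) := by
  intro l
  induction l with
  | nil =>
    intro _ _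
    rw [nW_nil, mul_one]
    simp only [List.not_mem_nil, if_false]
    exact (map_one _).symm
  | cons i l ih =>
    intro hnd ho
    rw [List.nodup_cons] at hnd
    rw [OrthList, List.pairwise_cons] at ho
    have hc := nG_commute_nW (F := F) h H (i := i) (l := l)
      fun j hj => ⟨(ho.1 j hj).1, fun e => hnd.1 (e ▸ hj)⟩
    rw [nW_cons, show ∀ a b : GL D.Idx F, a * b * (a * b) = a * (b * a) * b by intros; group,
      ← hc.eq, show ∀ a b : GL D.Idx F, a * (a * b) * b = a * a * (b * b) by intros; group,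
      ih hnd.2 ho.2]
    have e := nG_mul_nG_neg h.cert (D.simple i) (1 : F) (-1)
    rw [neg_neg] at e
    rw [e, hG_simple h.cert i one_ne_zero, hG_simple h.cert i (neg_ne_zero.2 one_ne_zero),
      ← map_inv, ← map_mul, ← map_mul]
    congr 1
    funext x
    simp only [Pi.mul_apply, Pi.inv_apply, List.mem_cons]
    by_cases hx : x = i
    · subst hx
      simp [hnd.1, Units.ext_iff]
    · simp [hx]

theorem orth_conj_torus (h : Full D A) : ∀ (l : List (Fin D.rank)), l.Nodup → OrthList D l →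
    ∀ c : Fin D.rank → Fˣ, nW h.cert F l * torusHom D F c * (nW h.cert F l)⁻¹ =
      torusHom D F (fun x => if x ∈ l then c x * (chi D (D.simple x) c)⁻¹ else c x) := by
  intro l
  induction l with
  | nil => intro _ _ c; simp
  | cons i l ih =>
    intro hnd ho c
    rw [List.nodup_cons] at hnd
    rw [OrthList, List.pairwise_cons] at ho
    set c1 : Fin D.rank → Fˣ := fun x => if x ∈ l then c x * (chi D (D.simple x) c)⁻¹ else c x
      with hc1
    rw [nW_cons, show ∀ a b t : GL D.Idx F, a * b * t * (a * b)⁻¹ = a * (b * t * b⁻¹) * a⁻¹ by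
      intros; group, ih hnd.2 ho.2 c, nG_simple_mul_torus h i 1 one_ne_zero]
    congr 1
    have hchi : chi D (D.simple i) c1 = chi D (D.simple i) c := by
      show ∏ k : Fin D.rank, c1 k ^ D.cartan k (D.simple i) =
        ∏ k : Fin D.rank, c k ^ D.cartan k (D.simple i)
      refine Finset.prod_congr rfl fun k _ => ?_
      by_cases hk : k ∈ l
      · rw [(ho.1 k hk).2]; simp
      · rw [show c1 k = c k from if_neg hk]
    funext x
    rw [reflTorus, Pi.mul_apply, hchi]
    by_cases hx : x = i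
    · subst hx
      simp [hnd.1]
    · simp [hx]

/-- Every involution is conjugate into the torus. -/
theorem exists_conj_torus_aux (h : Full D A) (H : InvData D A) [Fintype F]
    (hodd : Odd (Fintype.card F)) (hinj : Function.Injective (torusHom D F)) :
    ∀ (N M : ℕ) (n : GL D.Idx F) (σ : Equiv.Perm (Fin D.nroots)) (η : Fin D.nroots → F),
      n ∈ D.monomialSubgroup F → n * n = 1 → Acts h.cert n σ η →
      (negd h.cert σ).card = N → (invs σ).card = M →
      ∃ g ∈ D.group F, g * n * g⁻¹ ∈ D.diagonalSubgroup F := by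
  classical
  intro N
  induction N using Nat.strong_induction_on with
  | _ N ihN =>
  intro M
  induction M using Nat.strong_induction_on with
  | _ M ihM =>
  intro n σ η hn hn2 hA hN hM
  have hG : ∀ {x}, x ∈ D.monomialSubgroup F → x ∈ D.group F := fun hx => monomial_le_group h.cert hx
  have conj2 : ∀ {g : GL D.Idx F}, g * n * g⁻¹ * (g * n * g⁻¹) = 1 := fun {g} => by
    rw [show g * n * g⁻¹ * (g * n * g⁻¹) = g * (n * n) * g⁻¹ by group, hn2]; group
  by_cases hdesc : ∃ i, D.IsNegRoot (σ (smp h.cert i)) ∧ σ (smp h.cert i) ≠ ngR h.cert (smp h.cert i)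
  · obtain ⟨i, hneg, hne⟩ := hdesc
    obtain ⟨σ', η', hA', e1, e2⟩ := descend h hA hn2 i hneg hne
    have hm := nG_mem_monomial (F := F) h i one_ne_zero
    obtain ⟨g, hg, hgd⟩ := ihM _ (hM ▸ e2) _ σ' η' (mul_mem (mul_mem hm hn) (inv_mem hm))
      conj2 hA' (e1.trans hN) rfl
    refine ⟨g * nG h.cert (D.simple i) 1, mul_mem hg (hG hm), ?_⟩
    convert hgd using 1
    group
  simp only [not_exists, not_and, not_not] at hdesc
  let J : List (Fin D.rank) := (List.finRange D.rank).filter fun i =>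
    decide (σ (smp h.cert i) = ngR h.cert (smp h.cert i))
  have hJ : ∀ i, i ∈ J ↔ σ (smp h.cert i) = ngR h.cert (smp h.cert i) := fun i => by simp [J]
  -- reduce when some negated fundamental root has a square coefficient
  have step : ∀ (n' : GL D.Idx F) (η' : Fin D.nroots → F), n' ∈ D.monomialSubgroup F →
      n' * n' = 1 → Acts h.cert n' σ η' → ∀ i ∈ J, IsSquare (η' (smp h.cert i)) →
      ∃ g ∈ D.group F, g * n' * g⁻¹ ∈ D.diagonalSubgroup F := by
    intro n' η' hn' hn'2 hA' i hi hsq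
    obtain ⟨g, hg, hgm, σ', η'', hA'', hlt⟩ :=
      square_step h hodd hn' hA' hn'2 i ((hJ i).1 hi) hsq
    have h22 : g⁻¹ * n' * g * (g⁻¹ * n' * g) = 1 := by
      rw [show g⁻¹ * n' * g * (g⁻¹ * n' * g) = g⁻¹ * (n' * n') * g by group, hn'2]; group
    obtain ⟨g', hg', hd⟩ := ihN _ (hN ▸ hlt) _ _ σ' η'' hgm h22 hA'' rfl rfl
    refine ⟨g' * g⁻¹, mul_mem hg' (inv_mem hg), ?_⟩
    convert hd using 1
    group
  by_cases hs : ∃ i ∈ J, IsSquare (η (smp h.cert i))
  · obtain ⟨i, hi, hsq⟩ := hs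
    exact step n η hn hn2 hA i hi hsq
  simp only [not_exists, not_and] at hs
  by_cases hp : ∃ i ∈ J, ∃ j ∈ J, i ≠ j ∧ Odd (D.cartan i (D.simple j))
  · obtain ⟨i, hi, j, hj, -, hod⟩ := hp
    obtain ⟨g, hg, hgm, η', hA', hsq⟩ :=
      flip_step h hodd hn hA i j ((hJ i).1 hi) ((hJ j).1 hj) (hs i hi) (hs j hj) hod
    have h22 : g⁻¹ * n * g * (g⁻¹ * n * g) = 1 := by
      rw [show g⁻¹ * n * g * (g⁻¹ * n * g) = g⁻¹ * (n * n) * g by group, hn2]; group
    obtain ⟨g', hg', hd⟩ := step _ η' hgm h22 hA' j hj hsq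
    refine ⟨g' * g⁻¹, mul_mem hg' (inv_mem hg), ?_⟩
    convert hd using 1
    group
  simp only [not_exists, not_and] at hp
  have horth0 : ∀ i ∈ J, ∀ j ∈ J, i ≠ j → D.cartan i (D.simple j) = 0 := fun i hi j hj hne => by
    by_contra e
    rcases H.adj i j hne e with h1 | h1
    · exact hp i hi j hj hne h1
    · exact hp j hj i hi (Ne.symm hne) h1
  have hnd : J.Nodup := (List.nodup_finRange _).filter _
  have horth : OrthList D J :=
    List.Pairwise.imp_of_mem (fun {a b} ha hb hne => ⟨horth0 a ha b hb hne,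
      horth0 b hb a ha (Ne.symm hne)⟩) hnd
  obtain ⟨-, w2⟩ := orth_word (F := F) h H J hnd horth
  -- `n` is `nW J` times a torus element
  have hpos : ∀ i, D.IsPosRoot (σ (wPerm h.cert J (smp h.cert i))) := by
    intro i
    by_cases hi : i ∈ J
    · rw [(w2 i hi).1, hA.neg, (hJ i).1 hi, ngR_ngR]
      exact h.simple_pos i.isLt
    · have hσi : D.IsPosRoot (σ (smp h.cert i)) :=
        (h.pos.pos_or_neg (σ (smp h.cert i)).isLt).resolve_right fun hn' =>
          hi ((hJ i).2 (hdesc i hn'))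
      obtain ⟨x, hxJ, hx0⟩ : ∃ x : Fin D.rank, x ∉ J ∧ 0 < crd A x (σ (smp h.cert i)) := by
        by_contra hcon
        simp only [not_exists, not_and, not_lt] at hcon
        have e := hA.lin i i.isLt (σ (smp h.cert i))
        rw [sigma_invol h hA hn2, crd_smp h.cert i i.isLt, if_pos rfl] at e
        refine one_ne_zero (e.trans (Finset.sum_eq_zero fun y _ => ?_))
        by_cases hy : y ∈ J
        · rw [(hJ y).1 hy, crd_ngR h.cert _ i.isLt, crd_smp h.cert y i.isLt,
            if_neg fun e' => hi ((Fin.ext e' : i = y) ▸ hy), neg_zero, mul_zero]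
        · rw [le_antisymm (hcon y hy) (h.crd_nonneg hσi y.isLt), zero_mul]
      refine h.isPos_of_crd_pos (σ (wPerm h.cert J (smp h.cert i))).isLt x.isLt ?_
      rw [hA.lin x x.isLt, Finset.sum_eq_single i]
      · rw [crd_wPerm_of_notMem h J _ i hi, crd_smp h.cert i i.isLt, if_pos rfl, one_mul]
        exact hx0
      · intro y _ hy
        by_cases hyJ : y ∈ J
        · rw [(hJ y).1 hyJ, crd_ngR h.cert _ x.isLt, crd_smp h.cert y x.isLt,
            if_neg fun e' => hxJ ((Fin.ext e' : x = y) ▸ hyJ), neg_zero, mul_zero]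
        · rw [crd_wPerm_of_notMem h J _ y hyJ, crd_smp h.cert i y.isLt,
            if_neg fun e' => hy (Fin.ext e'), zero_mul]
      · simp
  obtain ⟨ηw, hAw⟩ := acts_nW (F := F) h J
  have hd0 : n * nW h.cert F J ∈ D.diagonalSubgroup F :=
    mem_diagonal_of_perm h (mul_mem hn (nW_mem_monomial h J)) (hA.mul hAw) hpos
  rcases J.eq_nil_or_concat with hnil | ⟨l', j, hl'⟩
  · refine ⟨1, one_mem _, ?_⟩
    rw [hnil, nW_nil, mul_one] at hd0
    simpa using hd0
  have hjJ : j ∈ J := by rw [hl']; simp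
  obtain ⟨c, hc⟩ : ∃ c, torusHom D F c = n * nW h.cert F J := by
    rwa [diagonalSubgroup_eq_range h] at hd0
  have hn' : n = nW h.cert F J * torusHom D F c⁻¹ := by
    rw [map_inv, hc, _root_.mul_inv_rev, mul_inv_cancel_left, inv_eq_of_mul_eq_one_right hn2]
  set d := c⁻¹
  -- the coefficient at `j`
  have hcoef : η (smp h.cert j) = -((chi D (D.simple j) d : Fˣ) : F) := by
    have h1 := hA.conj (smp h.cert j) 1
    rw [(hJ j).1 hjJ, hn', show ∀ a b x : GL D.Idx F, a * b * x * (a * b)⁻¹ = a * (b * x * b⁻¹) * a⁻¹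
      by intros; group, (acts_torus h.cert d).conj, Equiv.Perm.one_apply,
      show (((smp h.cert j : Fin D.nroots) : ℕ)) = D.simple j from rfl, (w2 j hjJ).2] at h1
    have := xG_injective h.cert (h.cert.wf.neg_lt _ (h.cert.wf.simple_lt j j.isLt)) h1
    simpa using this.symm
  have hsq : torusHom D F ((fun x => if x ∈ J then d x * (chi D (D.simple x) d)⁻¹ else d x) *
      (fun x => if x ∈ J then (-1 : Fˣ) else 1) * d) = torusHom D F 1 := by
    rw [map_mul, map_mul, ← orth_conj_torus h J hnd horth d, ← nW_sq h H J hnd horth, map_one,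
      ← hn2]
    conv_rhs => rw [hn']
    group
  have hcomp := congrFun (hinj hsq) j
  simp only [Pi.mul_apply, Pi.one_apply, if_pos hjJ] at hcomp
  refine absurd ⟨(d j : F), ?_⟩ (hs j hjJ)
  rw [hcoef]
  have := congrArg Units.val hcomp
  simp only [Units.val_mul, Units.val_one, Units.val_neg, Units.val_inv_eq_inv_val] at this
  have h0 : ((chi D (D.simple j) d : Fˣ) : F) ≠ 0 := Units.ne_zero _
  field_simp at this
  linear_combination this

theorem exists_conj_torus (h : Full D A) (H : InvData D A) [Fintype F]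
    (hodd : Odd (Fintype.card F)) (hinj : Function.Injective (torusHom D F)) {t : GL D.Idx F}
    (ht : t ∈ D.group F) (h2 : t * t = 1) :
    ∃ g ∈ D.group F, ∃ c : Fin D.rank → Fˣ, g * t * g⁻¹ = torusHom D F c ∧ ∀ i, c i * c i = 1 := by
  obtain ⟨g, hg, hm⟩ := exists_monomial_conj h hodd ht h2
  obtain ⟨σ, η, hA⟩ := exists_acts h hm
  have hm2 : g * t * g⁻¹ * (g * t * g⁻¹) = 1 := by
    rw [show g * t * g⁻¹ * (g * t * g⁻¹) = g * (t * t) * g⁻¹ by group, h2]; group
  obtain ⟨g', hg', hd⟩ := exists_conj_torus_aux h H hodd hinj _ _ _ σ η hm hm2 hA rfl rfl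
  obtain ⟨c, hc⟩ : ∃ c, torusHom D F c = g' * (g * t * g⁻¹) * g'⁻¹ := by
    rwa [diagonalSubgroup_eq_range h] at hd
  refine ⟨g' * g, mul_mem hg' hg, c, by rw [hc]; group, fun i => ?_⟩
  have e : c * c = 1 := hinj (by
    rw [map_mul, hc, map_one,
      show g' * (g * t * g⁻¹) * g'⁻¹ * (g' * (g * t * g⁻¹) * g'⁻¹) =
        g' * (g * t * g⁻¹ * (g * t * g⁻¹)) * g'⁻¹ by group, hm2]
    group)
  exact congrFun e i

end CfsgLib.InvCentralizers.ChevInvolution
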