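import Cfsg.Agent.Lib.Chevalley.SL2

/-!
An element `n` exchanging the two root groups of a rank one subgroup, `n x(t) n⁻¹ = y(a t)`,
`n y(t) n⁻¹ = x(t/a)`, can be conjugated inside that subgroup: to `slN(1/b) n` when `a = b²`,
and to `slH(e) n` for every `e ≠ 0` when the field is finite.
-/

set_option autoImplicit false

namespace CfsgLib.InvCentralizers.ChevInvolution

open Matrix CfsgLib.Chevalley
open scoped MatrixGroups

variable {F : Type*} [Field F] {G : Type*} [Group G] {x y : F → G}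

theorem sl_det' (g : SL(2, F)) : g.1 0 0 * g.1 1 1 - g.1 0 1 * g.1 1 0 = 1 := by
  classical exact sl_det g

theorem slFun_X [DecidableEq F] (R : SLRel x y) (t : F) : slFun x y (slX t) = x t := by
  simp [slFun, slX, R.h_one]

theorem slFun_Y [DecidableEq F] (R : SLRel x y) (t : F) : slFun x y (slY t) = y t := by
  by_cases ht : t = 0
  · subst ht
    simp [slFun, slY, R.h_one, R.x_zero, R.y_zero]
  · have e : slFun x y (slY t) = x (1 / t) * slN x y (-t⁻¹) * x (1 / t) := by
      simp [slFun, slY, ht]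
    rw [e, one_div, slN, inv_neg, inv_inv, neg_neg, R.x_neg]
    group

/-- Every element of `SL₂` is a product of four unitriangular elements. -/
theorem exists_slYXYX (g : SL(2, F)) :
    ∃ w u v z : F, g = slY w * slX u * slY v * slX z := by
  have key : ∀ g : SL(2, F), g.1 1 0 ≠ 0 → ∃ u v z : F, g = slX u * slY v * slX z := by
    intro g hc
    refine ⟨(g.1 0 0 - 1) / g.1 1 0, g.1 1 0, (g.1 1 1 - 1) / g.1 1 0, ?_⟩
    have hdet := sl_det' g
    apply Subtype.ext
    simp only [Matrix.SpecialLinearGroup.coe_mul, slY_coe, slX_coe]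
    ext i j
    fin_cases i <;> fin_cases j <;>
      simp [Matrix.mul_apply, Fin.sum_univ_two] <;> field_simp <;>
      first | ring1 | linear_combination hdet | linear_combination -hdet
  by_cases hc : g.1 1 0 = 0
  · have hdet := sl_det' g
    rw [hc, mul_zero, sub_zero] at hdet
    have h1 : (slY (1 : F) * g).1 1 0 ≠ 0 := by
      simpa [Matrix.mul_apply, Fin.sum_univ_two, hc] using left_ne_zero_of_mul_eq_one hdet
    obtain ⟨u, v, z, e⟩ := key _ h1
    have h2 : slY (-1 : F) * slY 1 = 1 := by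
      apply Subtype.ext
      simp only [Matrix.SpecialLinearGroup.coe_mul, Matrix.SpecialLinearGroup.coe_one, slY_coe]
      ext i j
      fin_cases i <;> fin_cases j <;> simp [Matrix.mul_apply, Fin.sum_univ_two]
    refine ⟨-1, u, v, z, ?_⟩
    rw [mul_assoc (slY (-1 : F)), mul_assoc (slY (-1 : F)), ← e, ← mul_assoc, h2, one_mul]
  · obtain ⟨u, v, z, e⟩ := key g hc
    refine ⟨0, u, v, z, ?_⟩
    have h0 : slY (0 : F) = 1 := by
      apply Subtype.ext
      simp only [Matrix.SpecialLinearGroup.coe_one, slY_coe]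
      ext i j
      fin_cases i <;> fin_cases j <;> simp
    rw [h0, one_mul, e]

/-- An element of `SL₂` from its entries. -/
def mkSL (p q r s : F) (h : p * s - q * r = 1) : SL(2, F) :=
  ⟨!![p, q; r, s], by rw [Matrix.det_fin_two_of, h]⟩

theorem coe_mkSL (p q r s : F) (h : p * s - q * r = 1) : (mkSL p q r s h).1 = !![p, q; r, s] := rfl

/-- Conjugation by `!![0, 1; a, 0]`. -/
def antiConj (a : F) (ha : a ≠ 0) (g : SL(2, F)) : SL(2, F) :=
  ⟨!![g.1 1 1, g.1 1 0 / a; a * g.1 0 1, g.1 0 0], by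
    have h := sl_det' g
    simp only [Matrix.det_fin_two, Matrix.of_apply, Matrix.cons_val', Matrix.cons_val_zero,
      Matrix.cons_val_one, Matrix.empty_val', Matrix.cons_val_fin_one]
    field_simp
    linear_combination h⟩

theorem coe_antiConj (a : F) (ha : a ≠ 0) (g : SL(2, F)) :
    (antiConj a ha g).1 = !![g.1 1 1, g.1 1 0 / a; a * g.1 0 1, g.1 0 0] := rfl

theorem antiConj_mul (a : F) (ha : a ≠ 0) (g g' : SL(2, F)) :
    antiConj a ha (g * g') = antiConj a ha g * antiConj a ha g' := by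
  apply Subtype.ext
  simp only [coe_antiConj, Matrix.SpecialLinearGroup.coe_mul]
  ext i j
  fin_cases i <;> fin_cases j <;> simp [Matrix.mul_apply, Fin.sum_univ_two] <;> field_simp <;> ring

theorem antiConj_X (a : F) (ha : a ≠ 0) (t : F) : antiConj a ha (slX t) = slY (a * t) := by
  apply Subtype.ext
  simp only [coe_antiConj, slY_coe, slX_coe]
  ext i j
  fin_cases i <;> fin_cases j <;> simp

theorem antiConj_Y (a : F) (ha : a ≠ 0) (t : F) : antiConj a ha (slY t) = slX (a⁻¹ * t) := by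
  apply Subtype.ext
  simp only [coe_antiConj, slY_coe, slX_coe]
  ext i j
  fin_cases i <;> fin_cases j <;> simp [div_eq_inv_mul]

theorem conj_slFun [DecidableEq F] (R : SLRel x y) {n : G} {a : F} (ha : a ≠ 0)
    (hx : ∀ t, n * x t * n⁻¹ = y (a * t)) (hy : ∀ t, n * y t * n⁻¹ = x (a⁻¹ * t)) (g : SL(2, F)) :
    n * R.hom g * n⁻¹ = R.hom (antiConj a ha g) := by
  obtain ⟨w, u, v, z, rfl⟩ := exists_slYXYX g
  simp only [antiConj_mul, map_mul, antiConj_X, antiConj_Y]
  show n * (slFun x y (slY w) * slFun x y (slX u) * slFun x y (slY v) * slFun x y (slX z)) * n⁻¹ =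
    slFun x y (slX _) * slFun x y (slY _) * slFun x y (slX _) * slFun x y (slY _)
  rw [slFun_X R, slFun_X R, slFun_X R, slFun_X R, slFun_Y R, slFun_Y R, slFun_Y R, slFun_Y R,
    ← hy w, ← hx u, ← hy v, ← hx z]
  group

theorem hom_mem [DecidableEq F] (R : SLRel x y) {K : Subgroup G} (hx : ∀ t, x t ∈ K)
    (hy : ∀ t, y t ∈ K) (g : SL(2, F)) : R.hom g ∈ K := by
  obtain ⟨w, u, v, z, rfl⟩ := exists_slYXYX g
  simp only [map_mul]
  show slFun x y (slY w) * slFun x y (slX u) * slFun x y (slY v) * slFun x y (slX z) ∈ K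
  rw [slFun_X R, slFun_X R, slFun_Y R, slFun_Y R]
  exact mul_mem (mul_mem (mul_mem (hy _) (hx _)) (hy _)) (hx _)

/-- If `a` is a square then `n` is conjugate to `slN(1/b) n`. -/
theorem exists_square_step (R : SLRel x y) (h2 : (2 : F) ≠ 0) {n : G} {b : F} (hb : b ≠ 0)
    (hx : ∀ t, n * x t * n⁻¹ = y (b * b * t)) (hy : ∀ t, n * y t * n⁻¹ = x ((b * b)⁻¹ * t))
    {K : Subgroup G} (hxK : ∀ t, x t ∈ K) (hyK : ∀ t, y t ∈ K) :
    ∃ g ∈ K, g⁻¹ * n * g = slN x y b⁻¹ * n := by
  classical
  let m : SL(2, F) := mkSL 1 (-(2 * b)⁻¹) b (1 / 2) (by field_simp; ring)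
  refine ⟨R.hom m, hom_mem R hxK hyK m, ?_⟩
  have e : m⁻¹ * antiConj (b * b) (mul_ne_zero hb hb) m = mkSL 0 b⁻¹ (-b) 0 (by field_simp; ring) := by
    refine inv_mul_eq_iff_eq_mul.2 ?_
    apply Subtype.ext
    simp only [coe_antiConj, m, coe_mkSL, Matrix.SpecialLinearGroup.coe_mul]
    ext i j
    fin_cases i <;> fin_cases j <;> simp [Matrix.mul_apply, Fin.sum_univ_two] <;> field_simp
  have := conj_slFun R (mul_ne_zero hb hb) hx hy m
  calc (R.hom m)⁻¹ * n * R.hom m = (R.hom m)⁻¹ * (n * R.hom m * n⁻¹) * n := by group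
    _ = _ := by
      rw [this, ← map_inv, ← map_mul, e]
      show slFun x y _ * n = _
      simp [slFun, coe_mkSL, hb, R.x_zero]

/-- If `a` is not a square then `n` is conjugate to `slH(e) n` for every `e ≠ 0`. -/
theorem exists_flip_step [Fintype F] (R : SLRel x y) (hchar : ringChar F ≠ 2) {n : G} {a : F}
    (ha : a ≠ 0) (hx : ∀ t, n * x t * n⁻¹ = y (a * t)) (hy : ∀ t, n * y t * n⁻¹ = x (a⁻¹ * t))
    {K : Subgroup G} (hxK : ∀ t, x t ∈ K) (hyK : ∀ t, y t ∈ K) {e : F} (he : e ≠ 0) :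
    ∃ g ∈ K, g⁻¹ * n * g = slH x y e * n := by
  classical
  obtain ⟨s, r, hsr⟩ : ∃ s r : F, s * s - a * (r * r) = e := by
    obtain ⟨s, r, h⟩ := FiniteField.exists_root_sum_quadratic
      (f := (Polynomial.X ^ 2 - Polynomial.C e : Polynomial F))
      (g := (Polynomial.C (-a) * Polynomial.X ^ 2 : Polynomial F))
      (Polynomial.degree_X_pow_sub_C (by norm_num) _)
      (by rw [Polynomial.degree_C_mul_X_pow 2 (neg_ne_zero.2 ha)]; rfl)
      (FiniteField.odd_card_of_char_ne_two hchar)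
    refine ⟨s, r, ?_⟩
    simp only [Polynomial.eval_sub, Polynomial.eval_pow, Polynomial.eval_X, Polynomial.eval_C,
      Polynomial.eval_mul] at h
    linear_combination h
  let m : SL(2, F) := mkSL (s / e) r (r * a / e) s (by field_simp; linear_combination hsr)
  refine ⟨R.hom m, hom_mem R hxK hyK m, ?_⟩
  have e' : m⁻¹ * antiConj a ha m = mkSL e 0 0 e⁻¹ (by field_simp; ring) := by
    refine inv_mul_eq_iff_eq_mul.2 ?_
    apply Subtype.ext
    simp only [coe_antiConj, m, coe_mkSL, Matrix.SpecialLinearGroup.coe_mul]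
    ext i j
    fin_cases i <;> fin_cases j <;> simp [Matrix.mul_apply, Fin.sum_univ_two] <;> field_simp
  have := conj_slFun R ha hx hy m
  calc (R.hom m)⁻¹ * n * R.hom m = (R.hom m)⁻¹ * (n * R.hom m * n⁻¹) * n := by group
    _ = _ := by
      rw [this, ← map_inv, ← map_mul, e']
      show slFun x y _ * n = _
      simp [slFun, coe_mkSL, R.x_zero]

end CfsgLib.InvCentralizers.ChevInvolution
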