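import Cfsg.Agent.Lib.InvCentralizers.ChevInvolution.Monomial

/-!
The involutions of the diagonal subgroup as bit vectors, and the action of the fundamental
reflections on them.
-/

set_option autoImplicit false
set_option linter.unusedSectionVars false

namespace CfsgLib.InvCentralizers.ChevInvolution

open Cfsg.Lie CfsgLib.Chevalley Sparse

variable {D : ChevalleyDatum} {A : Aux} {F : Type*} [Field F]

/-- The sign vector of a bit vector. -/
def sgn (D : ChevalleyDatum) (F : Type*) [Field F] (b : ℕ) : Fin D.rank → Fˣ :=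
  fun k => if b.testBit k then -1 else 1

/-- The roots on which the sign vector of `b` gives `1`. -/
noncomputable def even (D : ChevalleyDatum) (A : Aux) (b s : ℕ) : Bool :=
  ((List.range D.rank).filter fun k => b.testBit k && (fCart A k s % 2 != 0)).length % 2 == 0

theorem sgn_mul_self (b : ℕ) : sgn D F b * sgn D F b = 1 := by
  funext k
  simp only [Pi.mul_apply, sgn, Pi.one_apply]
  split_ifs <;> simp

theorem neg_one_zpow_units (z : ℤ) : (-1 : Fˣ) ^ z = if z % 2 = 0 then 1 else -1 := by
  rcases Int.even_or_odd z with hz | hz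
  · rw [hz.neg_one_zpow, if_pos (Int.even_iff.1 hz)]
  · rw [hz.neg_one_zpow, if_neg (by rw [Int.odd_iff.1 hz]; norm_num)]

theorem prod_sgn (b : ℕ) (e : ℕ → ℤ) : ∀ l : List ℕ,
    (l.map fun k => (if b.testBit k then (-1 : Fˣ) else 1) ^ e k).prod =
      if ((l.filter fun k => b.testBit k && (e k % 2 != 0)).length % 2 == 0) then 1 else -1 := by
  intro l
  induction l with
  | nil => simp
  | cons k l ih =>
    rw [List.map_cons, List.prod_cons, ih]
    cases hb : b.testBit k
    · simp [hb]
    · rw [if_pos rfl, neg_one_zpow_units]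
      by_cases he : e k % 2 = 0
      · simp [hb, he]
      · simp only [hb, he, List.filter_cons, bne_iff_ne, ne_eq, not_false_eq_true, Bool.true_and, if_true, if_false, List.length_cons, beq_iff_eq]
        rcases Nat.mod_two_eq_zero_or_one
          (l.filter fun k => b.testBit k && (e k % 2 != 0)).length with h | h
        · simp [h, Nat.add_mod]
        · simp [h, Nat.add_mod]

theorem chi_sgn (hC : Cert D A) (b : ℕ) {s : ℕ} (hs : s < D.nroots) :
    chi D s (sgn D F b) = if even D A b s then 1 else -1 := by
  have hfil : ((List.range D.rank).filter fun k => b.testBit k && (fCart A k s % 2 != 0)) =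
      (List.range D.rank).filter fun k => b.testBit k && (D.cartan k s % 2 != 0) :=
    List.filter_congr fun k hk => by rw [hC.fCart_eq (List.mem_range.1 hk) hs]
  rw [even, hfil, ← prod_sgn, ← List.prod_toFinset _ List.nodup_range, List.toFinset_range,
    ← Fin.prod_univ_eq_prod_range]
  rfl

theorem neg_one_ne_one_units (hodd : (-1 : F) ≠ 1) : (-1 : Fˣ) ≠ 1 := fun e => hodd (by
  simpa using congrArg Units.val e)

theorem chi_sgn_eq_one_iff (hC : Cert D A) (hodd : (-1 : F) ≠ 1) (b : ℕ) {s : ℕ}
    (hs : s < D.nroots) : chi D s (sgn D F b) = 1 ↔ even D A b s = true := by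
  rw [chi_sgn hC b hs]
  cases even D A b s <;> simp [neg_one_ne_one_units hodd]

theorem neg_one_ne_one [Fintype F] (hodd : Odd (Fintype.card F)) : (-1 : F) ≠ 1 :=
  Ring.neg_one_ne_one_of_char_ne_two (two_ne_zero_of_odd hodd)

/-- The fundamental reflection `i` on bit vectors. -/
noncomputable def bitStep (D : ChevalleyDatum) (A : Aux) (b i : ℕ) : ℕ :=
  cond (even D A b (D.simple i)) b (b ^^^ 2 ^ i)

theorem reflTorus_sgn (hC : Cert D A) (i : Fin D.rank) (b : ℕ) :
    reflTorus D i (sgn D F b) = sgn D F (bitStep D A b i) := by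
  rw [reflTorus, chi_sgn hC b (hC.wf.simple_lt i i.isLt), bitStep]
  funext k
  cases he : even D A b (D.simple i) with
  | true => simp
  | false =>
    simp only [Bool.false_eq_true, if_false, cond_false, Pi.mul_apply, sgn, Nat.testBit_xor,
      Nat.testBit_two_pow, inv_neg, inv_one]
    by_cases hk : k = i
    · subst hk
      cases b.testBit k <;> simp
    · have hk' : (i : ℕ) ≠ k := fun e => hk (Fin.ext e.symm)
      simp [hk, hk']

theorem torusHom_mem_group (h : Full D A) (c : Fin D.rank → Fˣ) :
    torusHom D F c ∈ D.group F :=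
  diagonal_le_group h.cert (torus_mem_diagonal h c)

/-- The sign torus element in the group. -/
noncomputable def invElem (h : Full D A) (F : Type*) [Field F] (b : ℕ) : D.group F :=
  ⟨torusHom D F (sgn D F b), torusHom_mem_group h _⟩

theorem isConj_bitStep (h : Full D A) (i : Fin D.rank) (b : ℕ) :
    IsConj (invElem h F b) (invElem h F (bitStep D A b i)) := by
  refine isConj_iff.2 ⟨⟨nG h.cert (D.simple i) 1,
    monomial_le_group h.cert (nG_mem_monomial h i one_ne_zero)⟩, Subtype.ext ?_⟩
  show nG h.cert (D.simple i) 1 * torusHom D F (sgn D F b) * (nG h.cert (D.simple i) 1)⁻¹ =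
    torusHom D F (sgn D F (bitStep D A b i))
  rw [nG_simple_mul_torus h i 1 one_ne_zero, reflTorus_sgn h.cert]

/-- A list of pairs `(b, i)`, each stepping by `i` into the earlier ones. -/
noncomputable def reachPairsB (D : ChevalleyDatum) (A : Aux) : List (ℕ × ℕ) → List ℕ → Bool
  | [], _ => true
  | p :: l, seen => Nat.blt p.2 D.rank && seen.elem (bitStep D A p.1 p.2) &&
      reachPairsB D A l (p.1 :: seen)

theorem isConj_of_reach (h : Full D A) (z : ℕ) : ∀ (l : List (ℕ × ℕ)) (seen : List ℕ),
    reachPairsB D A l seen = true →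
    (∀ b ∈ seen, IsConj (invElem h F b) (invElem h F z)) →
    ∀ p ∈ l, IsConj (invElem h F p.1) (invElem h F z) := by
  intro l
  induction l with
  | nil => intro _ _ _ p hp; exact absurd hp List.not_mem_nil
  | cons p l ih =>
    intro seen hB hs
    simp only [reachPairsB, Bool.and_eq_true, Nat.blt_eq, List.elem_iff] at hB
    obtain ⟨⟨hi, hmem⟩, hrest⟩ := hB
    have hp : IsConj (invElem h F p.1) (invElem h F z) :=
      (isConj_bitStep h ⟨p.2, hi⟩ p.1).trans (hs _ hmem)
    intro p' hp'
    rcases List.mem_cons.1 hp' with rfl | hp'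
    · exact hp
    · exact ih _ hrest (fun b hb => (List.mem_cons.1 hb).elim (fun e => e ▸ hp) (hs b)) p' hp'

/-- Every nonzero bit vector is reached from `z` or from `w`. -/
noncomputable def coverB (D : ChevalleyDatum) (A : Aux) (z w : ℕ) (lz lw : List (ℕ × ℕ)) : Bool :=
  reachPairsB D A lz [z] && reachPairsB D A lw [w] &&
  lall (fun b => (b == 0) || (z :: lz.map Prod.fst).elem b || (w :: lw.map Prod.fst).elem b)
    (List.range (2 ^ D.rank))

theorem exists_bits (c : Fin D.rank → Fˣ) (hc : ∀ i, c i * c i = 1) :
    ∃ b < 2 ^ D.rank, c = sgn D F b := by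
  classical
  refine ⟨Nat.ofBits fun k => decide (c k = -1), Nat.ofBits_lt_two_pow _, funext fun k => ?_⟩
  simp only [sgn, Nat.testBit_ofBits, k.isLt, dif_pos, Fin.eta, decide_eq_true_eq]
  split_ifs with he
  · exact he
  · have hv : (c k : F) * c k = 1 := by
      have := congrArg Units.val (hc k)
      simpa using this
    rcases mul_self_eq_one_iff.1 hv with h1 | h1
    · exact Units.ext h1
    · exact absurd (Units.ext h1) he

theorem invElem_mul_self (h : Full D A) (b : ℕ) : invElem h F b * invElem h F b = 1 :=
  Subtype.ext (by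
    show torusHom D F (sgn D F b) * torusHom D F (sgn D F b) = 1
    rw [← map_mul, sgn_mul_self, map_one])

theorem orderOf_invElem (h : Full D A) (hinj : Function.Injective (torusHom D F))
    (hodd : (-1 : F) ≠ 1) {b : ℕ} (k : Fin D.rank) (hk : b.testBit k = true) :
    orderOf (invElem h F b) = 2 := by
  refine orderOf_eq_prime ((pow_two _).trans (invElem_mul_self h b)) fun e => ?_
  have e' : torusHom D F (sgn D F b) = torusHom D F 1 :=
    (congrArg Subtype.val e).trans (map_one _).symm
  have := congrFun (hinj e') k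
  simp only [sgn, hk, if_true, Pi.one_apply] at this
  exact neg_one_ne_one_units hodd this

/-- Every involution is conjugate to one of two given ones. -/
theorem isConj_or (h : Full D A) (H : InvData D A) [Fintype F] (hodd : Odd (Fintype.card F))
    (hinj : Function.Injective (torusHom D F)) {z w : ℕ} {lz lw : List (ℕ × ℕ)}
    (hB : coverB D A z w lz lw = true) {u : D.group F} (hu : orderOf u = 2) :
    IsConj u (invElem h F z) ∨ IsConj u (invElem h F w) := by
  simp only [coverB, Bool.and_eq_true, lall_eq, List.all_eq_true, List.mem_range, Bool.or_eq_true,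
    beq_iff_eq, List.elem_iff] at hB
  obtain ⟨⟨hz, hw⟩, hall⟩ := hB
  have hu2 : u * u = 1 := by rw [← pow_two, ← hu]; exact pow_orderOf_eq_one u
  have hu1 : u ≠ 1 := fun e => by rw [e, orderOf_one] at hu; omega
  obtain ⟨g, hg, c, e, hc⟩ :=
    exists_conj_torus h H hodd hinj u.2 (congrArg Subtype.val hu2)
  obtain ⟨b, hb, rfl⟩ := exists_bits c hc
  have hconj : IsConj u (invElem h F b) := isConj_iff.2 ⟨⟨g, hg⟩, Subtype.ext e⟩
  have hmem : ∀ (z : ℕ) (l : List (ℕ × ℕ)), reachPairsB D A l [z] = true →
      b ∈ z :: l.map Prod.fst → IsConj u (invElem h F z) := by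
    intro z l hl hbl
    refine hconj.trans ?_
    rcases List.mem_cons.1 hbl with rfl | hbl
    · exact IsConj.refl _
    · obtain ⟨p, hp, rfl⟩ := List.mem_map.1 hbl
      refine isConj_of_reach h z l [z] hl (fun x hx => ?_) p hp
      rw [List.mem_singleton.1 hx]
  rcases hall b hb with (hb0 | hbz) | hbw
  · subst hb0
    have e0 : invElem h F 0 = 1 := by
      refine Subtype.ext ?_
      show torusHom D F (sgn D F 0) = 1
      rw [show sgn D F 0 = 1 from funext fun k => by simp [sgn], map_one]
    rw [e0] at hconj
    exact absurd (isConj_one_left.1 hconj) hu1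
  · exact Or.inl (hmem z lz hz hbz)
  · exact Or.inr (hmem w lw hw hbw)

end CfsgLib.InvCentralizers.ChevInvolution
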